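import Groth.Prelude.Def_CDiv
import Groth.Agent.Lib.Depth.Transfer
import Mathlib.AlgebraicGeometry.Noetherian
import Mathlib.Topology.Sober
import Mathlib.Topology.KrullDimension

/-! Cartier divisors on integral locally Noetherian schemes. -/

universe u

open CategoryTheory AlgebraicGeometry TopologicalSpace

namespace GrothLib.CDivLib

variable {X : Scheme.{u}} [IsIntegral X]

/-- The image of a local ring in the function field. -/
noncomputable abbrev oX (x : X) : Subring X.functionField :=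
  (algebraMap (X.presheaf.stalk x) X.functionField).range

theorem germOf_eq_one_iff {x : X} {f : CDiv.KUnits X} :
    CDiv.germOf X x f = 1 ↔ ((f : X.functionField) ∈ oX x ∧ ((f⁻¹ : CDiv.KUnits X) : X.functionField) ∈ oX x) := by
  rw [CDiv.germOf, QuotientGroup.eq_one_iff]
  constructor
  · rintro ⟨v, rfl⟩
    exact ⟨⟨v, rfl⟩, ⟨(v⁻¹ : (X.presheaf.stalk x)ˣ), rfl⟩⟩
  · rintro ⟨⟨a, ha⟩, b, hb⟩
    refine ⟨⟨a, b, ?_, ?_⟩, Units.ext ha⟩ <;>
      · apply IsFractionRing.injective (X.presheaf.stalk x) X.functionField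
        simp [ha, hb]

theorem germOf_eq_germOf_iff {x : X} {f g : CDiv.KUnits X} :
    CDiv.germOf X x f = CDiv.germOf X x g ↔ CDiv.germOf X x (f⁻¹ * g) = 1 := by
  simp only [CDiv.germOf, QuotientGroup.eq, QuotientGroup.eq_one_iff]

/-- Spreading out a regular function. -/
theorem exists_open_mem_oX {x : X} {g : X.functionField} (h : g ∈ oX x) :
    ∃ U : X.Opens, x ∈ U ∧ ∀ y ∈ U, g ∈ oX y := by
  obtain ⟨a, rfl⟩ := h
  obtain ⟨U, hx, s, rfl⟩ := X.presheaf.exists_germ_eq a
  have : Nonempty U := ⟨⟨x, hx⟩⟩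
  refine ⟨U, hx, fun y hy => ⟨X.presheaf.germ U y hy s, ?_⟩⟩
  rw [Scheme.algebraMap_germ_eq_germToFunctionField, Scheme.algebraMap_germ_eq_germToFunctionField]

theorem mem_oX_genericPoint (g : X.functionField) : g ∈ oX (genericPoint X) := by
  refine ⟨g, ?_⟩
  simp [RingHom.algebraMap_toAlgebra]

theorem apply_genericPoint (D : CDiv.Divisor X) : D.1 (genericPoint X) = 1 := by
  obtain ⟨U, f, hx, hU⟩ := D.2 (genericPoint X)
  rw [hU _ hx, germOf_eq_one_iff]
  exact ⟨mem_oX_genericPoint _, mem_oX_genericPoint _⟩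

theorem isOpen_germOf_eq_one (f : CDiv.KUnits X) : IsOpen {y : X | CDiv.germOf X y f = 1} := by
  rw [isOpen_iff_forall_mem_open]
  intro y hy
  rw [Set.mem_setOf_eq, germOf_eq_one_iff] at hy
  obtain ⟨U, hyU, hU⟩ := exists_open_mem_oX hy.1
  obtain ⟨V, hyV, hV⟩ := exists_open_mem_oX hy.2
  exact ⟨(U : Set X) ∩ V, fun z hz => germOf_eq_one_iff.2 ⟨hU z hz.1, hV z hz.2⟩,
    U.isOpen.inter V.isOpen, hyU, hyV⟩

theorem isClosed_supp (D : CDiv.Divisor X) : IsClosed (CDiv.supp D) := by
  rw [← isOpen_compl_iff, isOpen_iff_forall_mem_open]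
  intro x hx
  obtain ⟨U, f, hxU, hU⟩ := D.2 x
  have hx' : CDiv.germOf X x f = 1 := by
    rw [← hU x hxU]; exact not_not.1 hx
  exact ⟨(U : Set X) ∩ {y | CDiv.germOf X y f = 1},
    fun z hz => by simp only [Set.mem_compl_iff, CDiv.supp, Set.mem_setOf_eq, not_not]; rw [hU z hz.1, hz.2],
    U.isOpen.inter (isOpen_germOf_eq_one f), hxU, hx'⟩

theorem genericPoint_notMem_supp (D : CDiv.Divisor X) : genericPoint X ∉ CDiv.supp D :=
  fun h => h (apply_genericPoint D)

theorem isEffectiveAt_of_eq_one {D : CDiv.Divisor X} {x : X} (h : D.1 x = 1) : CDiv.IsEffectiveAt D x := by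
  refine ⟨1, by simp, ?_⟩
  rw [h, show Units.mk0 _ _ = (1 : CDiv.KUnits X) from Units.ext (map_one _)]
  exact (QuotientGroup.mk_one _).symm

theorem isEffectiveAt_iff {D : CDiv.Divisor X} {x : X} {f : CDiv.KUnits X} (h : D.1 x = CDiv.germOf X x f) :
    CDiv.IsEffectiveAt D x ↔ (f : X.functionField) ∈ oX x := by
  constructor
  · rintro ⟨a, ha, hD⟩
    rw [h, germOf_eq_germOf_iff, germOf_eq_one_iff] at hD
    obtain ⟨⟨c, hc⟩, ⟨d, hd⟩⟩ := hD
    refine ⟨a * d, ?_⟩
    rw [map_mul, hd, mul_inv_rev, inv_inv, Units.val_mul, Units.val_inv_eq_inv_val, Units.val_mk0,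
      mul_inv_cancel_left₀ ha]
  · rintro ⟨a, ha⟩
    have h0 : algebraMap (X.presheaf.stalk x) X.functionField a ≠ 0 := by rw [ha]; exact f.ne_zero
    exact ⟨a, h0, by rw [h, show Units.mk0 _ h0 = f from Units.ext ha]⟩

theorem isOpen_effective (D : CDiv.Divisor X) : IsOpen {x : X | CDiv.IsEffectiveAt D x} := by
  rw [isOpen_iff_forall_mem_open]
  intro x hx
  obtain ⟨U, f, hxU, hU⟩ := D.2 x
  obtain ⟨V, hxV, hV⟩ := exists_open_mem_oX ((isEffectiveAt_iff (hU x hxU)).1 hx)
  exact ⟨(U : Set X) ∩ V, fun z hz => (isEffectiveAt_iff (hU z hz.1)).2 (hV z hz.2),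
    U.isOpen.inter V.isOpen, hxU, hxV⟩

variable [IsLocallyNoetherian X]

/-- A closed set of closed points of a locally Noetherian scheme is discrete. -/
theorem discrete_of_forall_isClosed (S : Set X) (hS : IsClosed S) (h : ∀ x ∈ S, IsClosed ({x} : Set X)) :
    DiscreteTopology S := by
  rw [discreteTopology_iff_isOpen_singleton]
  rintro ⟨x, hx⟩
  obtain ⟨_, ⟨U, hU, rfl⟩, hxU, -⟩ := X.isBasis_affineOpens.exists_subset_of_mem_open (Set.mem_univ x) isOpen_univ
  have : IsNoetherianRing Γ(X, U) := IsLocallyNoetherian.component_noetherian ⟨U, hU⟩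
  have : NoetherianSpace U := noetherianSpace_of_isAffineOpen U hU
  let T : Set U := (fun y : U => (y : X)) ⁻¹' S
  have hT : ∀ y : T, IsClosed ({y} : Set T) := fun y => by
    have : ({y} : Set T) = (fun z : T => z.1.1) ⁻¹' {y.1.1} := by
      ext z; exact ⟨fun e => e ▸ rfl, fun e => Subtype.ext (Subtype.ext e)⟩
    rw [this]
    exact (h _ y.2).preimage (continuous_subtype_val.comp continuous_subtype_val)
  have : NoetherianSpace T := Topology.IsInducing.subtypeVal.noetherianSpace
  have hfin : Finite T := by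
    obtain hf := NoetherianSpace.finite_irreducibleComponents (α := T)
    refine Set.finite_univ_iff.1 (Set.Finite.subset (hf.sUnion (fun C hC => ?_)) (fun y _ => ?_))
    · refine Set.Subsingleton.finite fun a ha b hb => ?_
      have hClirr : IsIrreducible (Subtype.val '' (Subtype.val '' C) : Set X) :=
        (hC.1.image _ continuous_subtype_val.continuousOn).image _ continuous_subtype_val.continuousOn
      have hgp := hClirr.isGenericPoint_genericPoint_closure
      set g := hClirr.genericPoint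
      have hgS : g ∈ S := by
        refine closure_minimal ?_ hS hgp.mem
        rintro _ ⟨_, ⟨⟨c, hc⟩, -, rfl⟩, rfl⟩; exact hc
      have hsub : closure (Subtype.val '' (Subtype.val '' C) : Set X) ⊆ {g} := by
        rw [← hgp.def]; exact (h g hgS).closure_subset
      have h1 := hsub (subset_closure ⟨_, ⟨a, ha, rfl⟩, rfl⟩)
      have h2 := hsub (subset_closure ⟨_, ⟨b, hb, rfl⟩, rfl⟩)
      exact Subtype.ext (Subtype.ext (h1.trans h2.symm))
    · exact Set.mem_sUnion.2 ⟨irreducibleComponent y, irreducibleComponent_mem_irreducibleComponents y, mem_irreducibleComponent⟩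
  have hop : IsOpen ((fun z : T => z.1.1) '' {⟨⟨x, hxU⟩, hx⟩}ᶜ)ᶜ := by
    refine isOpen_compl_iff.2 ?_
    rw [← Set.biUnion_of_singleton ((fun z : T => z.1.1) '' _)]
    refine (Set.toFinite _).isClosed_biUnion ?_
    rintro _ ⟨z, -, rfl⟩; exact h _ z.2
  refine ⟨(U : Set X) ∩ ((fun z : T => z.1.1) '' {⟨⟨x, hxU⟩, hx⟩}ᶜ)ᶜ, U.isOpen.inter hop, ?_⟩
  ext ⟨z, hz⟩
  simp only [Set.mem_preimage, Set.mem_inter_iff, SetLike.mem_coe, Set.mem_singleton_iff, Subtype.mk.injEq]
  constructor
  · rintro ⟨hzU, hn⟩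
    by_contra hne
    exact hn ⟨⟨⟨z, hzU⟩, hz⟩, fun e => hne (congrArg (fun w : T => w.1.1) e), rfl⟩
  · rintro rfl
    refine ⟨hxU, ?_⟩
    rintro ⟨w, hw, e⟩
    exact hw (Subtype.ext (Subtype.ext e))

omit [IsLocallyNoetherian X] in
theorem isClosed_of_discrete {S : Set X} (hS : IsClosed S) [DiscreteTopology S] (T : Set X) (hT : T ⊆ S) :
    IsClosed T := by
  have : IsClosed ((Subtype.val : S → X) ⁻¹' T) := isClosed_discrete _
  have h2 := hS.isClosedEmbedding_subtypeVal.isClosedMap _ this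
  rwa [Subtype.image_preimage_coe, Set.inter_eq_right.2 hT] at h2

omit [IsLocallyNoetherian X] in
/-- In dimension `≤ 1` every point other than the generic one is closed. -/
theorem isClosed_singleton_of_ne (hdim : topologicalKrullDim X ≤ 1) {x : X} (hx : x ≠ genericPoint X) :
    IsClosed ({x} : Set X) := by
  rw [← closure_subset_iff_isClosed]
  intro y hy
  by_contra hne
  let c : X → IrreducibleCloseds X := fun z => ⟨closure {z}, isIrreducible_singleton.closure, isClosed_closure⟩
  have hlt : ∀ a b : X, b ⤳ a → a ≠ b → c a < c b := by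
    intro a b hab hne
    refine lt_of_le_of_ne ?_ fun e => hne ?_
    · exact closure_minimal (Set.singleton_subset_iff.2 hab.mem_closure) isClosed_closure
    · have e' : closure {a} = closure ({b} : Set X) := congrArg (fun t : IrreducibleCloseds X => (t : Set X)) e
      exact (isGenericPoint_closure (x := a)).eq (e' ▸ isGenericPoint_closure)
  have h1 : c y < c x := hlt y x (specializes_iff_mem_closure.2 hy) hne
  have h2 : c x < c (genericPoint X) := hlt x _ ((genericPoint_spec X).specializes trivial) hx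
  let l : LTSeries (IrreducibleCloseds X) := ((RelSeries.singleton _ (c (genericPoint X))).cons (c x) h2).cons (c y) (by rw [RelSeries.head_cons]; exact h1)
  have : ((2 : ℕ) : WithBot ℕ∞) ≤ 1 := (Order.LTSeries.length_le_krullDim l).trans hdim
  exact absurd this (by decide)

theorem isClosed_singleton_of_mem_supp (hdim : topologicalKrullDim X ≤ 1) (D : CDiv.Divisor X)
    {x : X} (hx : x ∈ CDiv.supp D) : IsClosed ({x} : Set X) :=
  isClosed_singleton_of_ne hdim fun e => genericPoint_notMem_supp D (e ▸ hx)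

theorem discrete_supp (hdim : topologicalKrullDim X ≤ 1) (D : CDiv.Divisor X) :
    DiscreteTopology (CDiv.supp D) :=
  discrete_of_forall_isClosed _ (isClosed_supp D) fun _ => isClosed_singleton_of_mem_supp hdim D

open Classical in
/-- The divisor with given germs on a closed discrete set. -/
theorem exists_divisor (hdim : topologicalKrullDim X ≤ 1) (E : Set X) (hE : IsClosed E) [DiscreteTopology E]
    (d : ∀ x : X, CDiv.Germ X x) :
    ∃ D : CDiv.Divisor X, ∀ x : X, D.1 x = if x ∈ E then d x else 1 := by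
  refine ⟨⟨fun x => if x ∈ E then d x else 1, fun x => ?_⟩, fun _ => rfl⟩
  by_cases hx : x ∈ E
  · obtain ⟨f, hf⟩ := QuotientGroup.mk_surjective (d x)
    let Z : Set X := {y | CDiv.germOf X y f = 1}ᶜ
    have hZc : IsClosed Z := (isOpen_germOf_eq_one f).isClosed_compl
    have hZη : genericPoint X ∉ Z := fun h => h (germOf_eq_one_iff.2 ⟨mem_oX_genericPoint _, mem_oX_genericPoint _⟩)
    have : DiscreteTopology Z := discrete_of_forall_isClosed Z hZc fun y hy =>
      isClosed_singleton_of_ne hdim fun e => hZη (e ▸ hy)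
    refine ⟨⟨((Z \ {x}) ∪ (E \ {x}))ᶜ, (((isClosed_of_discrete hZc _ Set.sdiff_subset).union
      (isClosed_of_discrete hE _ Set.sdiff_subset))).isOpen_compl⟩, f, by simp, fun y hy => ?_⟩
    simp only [TopologicalSpace.Opens.mem_mk, Set.mem_compl_iff, Set.mem_union, Set.mem_sdiff,
      Set.mem_singleton_iff, not_or, not_and, not_not] at hy
    by_cases hyx : y = x
    · subst hyx; simp [hx, hf]
    · beta_reduce
      rw [if_neg fun h => hyx (hy.2 h)]
      exact (not_not.1 fun h => hyx (hy.1 h)).symm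
  · exact ⟨⟨Eᶜ, hE.isOpen_compl⟩, 1, hx, fun y hy => by
      beta_reduce
      rw [if_neg hy, CDiv.germOf, QuotientGroup.mk_one]⟩

/-- The key depth computation. -/
theorem depth_eq_one {x : X} {g : X.functionField} (hgx : g ∉ oX x)
    (hz : ∀ z : X, z ⤳ x → z ≠ x → g ∈ oX z) :
    LocCoh.depth (X.presheaf.stalk x) (X.presheaf.stalk x) = 1 := by
  set R := X.presheaf.stalk x
  set m := IsLocalRing.maximalIdeal R
  let J : Ideal R :=
    { carrier := {c | algebraMap R X.functionField c * g ∈ oX x}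
      add_mem' := fun {a b} ha hb => by
        simp only [Set.mem_setOf_eq, map_add, add_mul] at *
        exact add_mem ha hb
      zero_mem' := by simp only [Set.mem_setOf_eq, map_zero, zero_mul]; exact zero_mem _
      smul_mem' := fun r a ha => by
        simp only [Set.mem_setOf_eq, smul_eq_mul, map_mul, mul_assoc] at *
        exact mul_mem ⟨r, rfl⟩ ha }
  have hJ : J ≠ ⊤ := fun h => hgx (by
    have : (1 : R) ∈ J := h ▸ trivial
    simpa [J] using this)
  have hrad : m ≤ J.radical := by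
    rw [Ideal.radical_eq_sInf]
    refine le_sInf ?_
    rintro P ⟨hJP, hP⟩
    have hPm : P ≤ m := IsLocalRing.le_maximalIdeal hP.ne_top
    by_contra hmP
    obtain ⟨_, ⟨U, hU, rfl⟩, hxU, -⟩ := X.isBasis_affineOpens.exists_subset_of_mem_open (Set.mem_univ x) isOpen_univ
    letI := TopCat.Presheaf.algebra_section_stalk X.presheaf (U := U) ⟨x, hxU⟩
    have : IsLocalization.AtPrime R (hU.primeIdealOf ⟨x, hxU⟩).asIdeal := hU.isLocalization_stalk ⟨x, hxU⟩
    let q : PrimeSpectrum Γ(X, U) := ⟨P.comap (algebraMap Γ(X, U) R), hP.comap _⟩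
    let z : X := hU.fromSpec q
    have hzU : z ∈ U := by
      rw [← SetLike.mem_coe, ← hU.range_fromSpec]; exact ⟨q, rfl⟩
    have hzx : z ⤳ x := by
      have e : hU.fromSpec (hU.primeIdealOf ⟨x, hxU⟩) = x := hU.fromSpec_primeIdealOf ⟨x, hxU⟩
      rw [← e]
      refine Specializes.map ?_ hU.fromSpec.continuous
      refine (PrimeSpectrum.le_iff_specializes _ _).1 ?_
      change P.comap (algebraMap Γ(X, U) R) ≤ _
      refine (Ideal.comap_mono hPm).trans (le_of_eq ?_)
      exact IsLocalization.AtPrime.under_maximalIdeal R _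
    have hzp : hU.primeIdealOf ⟨z, hzU⟩ = q :=
      hU.fromSpec.isOpenEmbedding.injective (hU.fromSpec_primeIdealOf _)
    have hne : z ≠ x := fun e => hmP (by
      have h1 : hU.primeIdealOf ⟨x, hxU⟩ = q := by
        rw [← hzp]; congr 1; exact Subtype.ext e.symm
      rw [← IsLocalization.map_under (hU.primeIdealOf ⟨x, hxU⟩).asIdeal.primeCompl R m]
      refine Ideal.map_le_iff_le_comap.2 (le_of_eq ?_)
      rw [IsLocalization.AtPrime.under_maximalIdeal R (hU.primeIdealOf ⟨x, hxU⟩).asIdeal, h1])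
    obtain ⟨w, hw⟩ := hz z hzx hne
    letI := TopCat.Presheaf.algebra_section_stalk X.presheaf (U := U) ⟨z, hzU⟩
    have : IsLocalization.AtPrime (X.presheaf.stalk z) (hU.primeIdealOf ⟨z, hzU⟩).asIdeal := hU.isLocalization_stalk ⟨z, hzU⟩
    obtain ⟨⟨a, s, hs⟩, has⟩ := IsLocalization.surj (hU.primeIdealOf ⟨z, hzU⟩).asIdeal.primeCompl w
    refine hs ?_
    rw [hzp]
    refine hJP ⟨algebraMap Γ(X, U) R a, ?_⟩
    have : Nonempty U := ⟨⟨x, hxU⟩⟩
    have := congrArg (algebraMap (X.presheaf.stalk z) X.functionField) has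
    rw [map_mul, hw] at this
    change algebraMap R X.functionField (X.presheaf.germ U x hxU a) =
      algebraMap R X.functionField (X.presheaf.germ U x hxU s) * g
    rw [Scheme.algebraMap_germ_eq_germToFunctionField, Scheme.algebraMap_germ_eq_germToFunctionField]
    change g * algebraMap (X.presheaf.stalk z) X.functionField (X.presheaf.germ U z hzU s) =
      algebraMap (X.presheaf.stalk z) X.functionField (X.presheaf.germ U z hzU a) at this
    rw [Scheme.algebraMap_germ_eq_germToFunctionField, Scheme.algebraMap_germ_eq_germToFunctionField] at this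
    rw [← this, mul_comm]
  have hfield : m ≠ ⊥ := by
    intro h0
    obtain ⟨a, b, hb, rfl⟩ := IsFractionRing.div_surjective (A := R) g
    refine hgx (?_ : _ ∈ oX x)
    have hbu : IsUnit b := by
      by_contra hbu
      have : b ∈ m := hbu
      rw [h0] at this
      exact nonZeroDivisors.ne_zero hb this
    exact ⟨a * (hbu.unit⁻¹ : Rˣ), by
      rw [map_mul, map_units_inv, IsUnit.unit_spec, div_eq_mul_inv]⟩
  have hnM : m • (⊤ : Submodule R R) ≠ ⊤ := by
    rw [smul_eq_mul, Ideal.mul_top]; exact Ideal.IsPrime.ne_top'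
  refine le_antisymm (not_lt.1 fun h2 => ?_) ?_
  · have h2' : ((2 : ℕ) : ℕ∞) ≤ LocCoh.idealDepth m R := Order.add_one_le_of_lt h2
    obtain ⟨rs, hlen, hmem, hreg⟩ := (GrothLib.Depth.le_idealDepth_iff_exists m hnM 2).1 h2'
    match rs, hlen with
    | [s, t], _ =>
      obtain ⟨n, hn⟩ := Ideal.exists_pow_le_of_le_radical_of_fg hrad (IsNoetherian.noetherian m)
      classical
      have hex : ∃ n, m ^ n ≤ J := ⟨n, hn⟩
      set k := Nat.find hex with hk
      have hk0 : k ≠ 0 := fun e => hJ (top_le_iff.1 (by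
        have := Nat.find_spec hex
        rw [← hk, e, pow_zero, Ideal.one_eq_top] at this
        exact this))
      obtain ⟨r, hr, hrJ⟩ := SetLike.not_le_iff_exists.1 (Nat.find_min hex (show k - 1 < k by omega))
      have hmr : ∀ c ∈ m, c * r ∈ J := fun c hc => Nat.find_spec hex (by
        rw [← hk, show k = (k - 1) + 1 by omega, pow_succ, mul_comm c r]
        exact Ideal.mul_mem_mul hr hc)
      obtain ⟨u, hu⟩ := hmr s (hmem s (by simp))
      obtain ⟨v, hv⟩ := hmr t (hmem t (by simp))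
      rw [RingTheory.Sequence.isWeaklyRegular_cons_iff, RingTheory.Sequence.isWeaklyRegular_singleton_iff] at hreg
      obtain ⟨hs, ht⟩ := hreg
      have hs0 : s ≠ 0 := fun e => one_ne_zero (α := R) (hs (by simp [e] : s • (1 : R) = s • 0))
      have key : t * u = s * v := IsFractionRing.injective R X.functionField (by
        rw [map_mul, map_mul, hu, hv, map_mul, map_mul]; ring)
      have hsu : (Submodule.Quotient.mk u : QuotSMulTop s R) = 0 := ht (by
        change t • (Submodule.Quotient.mk u : QuotSMulTop s R) = t • 0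
        rw [smul_zero, ← Submodule.Quotient.mk_smul, Submodule.Quotient.mk_eq_zero, smul_eq_mul, key]
        exact Submodule.smul_mem_pointwise_smul v s ⊤ trivial)
      rw [Submodule.Quotient.mk_eq_zero] at hsu
      obtain ⟨w, -, rfl⟩ := (Submodule.mem_smul_pointwise_iff_exists _ _ _).1 hsu
      refine hrJ ⟨w, ?_⟩
      refine mul_left_cancel₀ ((map_ne_zero_iff _ (IsFractionRing.injective R X.functionField)).2 hs0) ?_
      rw [← map_mul, ← smul_eq_mul, hu, map_mul, mul_assoc]
  · obtain ⟨s, hs, hs0⟩ := Submodule.exists_mem_ne_zero_of_ne_bot hfield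
    refine (GrothLib.Depth.le_idealDepth_iff_exists m hnM 1).2 ⟨[s], rfl, by simpa using hs, ?_⟩
    rw [RingTheory.Sequence.isWeaklyRegular_singleton_iff]
    exact IsSMulRegular.of_right_eq_zero_of_smul fun a ha => (mul_eq_zero.1 ha).resolve_left hs0

omit [IsLocallyNoetherian X] in
/-- A nonempty closed subset has a maximal point. -/
theorem exists_maximal {S : Set X} (hS : IsClosed S) (hne : S.Nonempty) :
    ∃ x ∈ S, ∀ z ∈ S, z ⤳ x → z = x := by
  obtain ⟨a, ha⟩ := hne
  obtain ⟨Z, hZ, hirr, hmax⟩ : ∃ Z : Set X, Z ⊆ S ∧ IsIrreducible Z ∧ ∀ W ⊆ S, IsIrreducible W → Z ⊆ W → W = Z := by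
    obtain ⟨C, hC, hsub⟩ := exists_mem_irreducibleComponents_subset_of_isIrreducible
      ((Set.univ : Set S) ∩ {⟨a, ha⟩}) (by simpa using isIrreducible_singleton)
    refine ⟨Subtype.val '' C, Subtype.coe_image_subset _ _, hC.1.image _ continuous_subtype_val.continuousOn, fun W hWS hW hle => ?_⟩
    have hW' : IsIrreducible ((Subtype.val : S → X) ⁻¹' W) := by
      refine ⟨?_, ?_⟩
      · obtain ⟨w, hw⟩ := hW.1
        exact ⟨⟨w, hWS hw⟩, hw⟩
      · rintro _ _ ⟨u, hu, rfl⟩ ⟨v, hv, rfl⟩ ⟨a, haW, hau⟩ ⟨b, hbW, hbv⟩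
        obtain ⟨c, hcW, hc⟩ := hW.2 u v hu hv ⟨a, haW, hau⟩ ⟨b, hbW, hbv⟩
        exact ⟨⟨c, hWS hcW⟩, hcW, hc⟩
    have h1 : C ⊆ (Subtype.val : S → X) ⁻¹' W := Set.image_subset_iff.1 hle
    have h2 := hC.2 hW' h1
    exact Set.Subset.antisymm (fun w hw => ⟨⟨w, hWS hw⟩, h2 hw, rfl⟩) hle
  have hcl : closure Z = Z := hmax _ (closure_minimal hZ hS) hirr.closure subset_closure
  have hgp : IsGenericPoint hirr.genericPoint Z := by
    have := hirr.isGenericPoint_genericPoint_closure
    rwa [hcl] at this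
  refine ⟨_, hZ hgp.mem, fun z hz hzx => ?_⟩
  have h1 : closure {z} = Z := hmax _ (closure_minimal (Set.singleton_subset_iff.2 hz) hS)
    isIrreducible_singleton.closure (by rw [← hgp.def]; exact closure_minimal (Set.singleton_subset_iff.2 hzx.mem_closure) isClosed_closure)
  exact (isGenericPoint_closure (x := z)).eq (h1 ▸ hgp)

theorem depth_eq_one_of_maximal (D : CDiv.Divisor X) {x : X} (hx : x ∈ CDiv.supp D)
    (hmax : ∀ z : X, z ∈ CDiv.supp D → z ⤳ x → z = x) :
    LocCoh.depth (X.presheaf.stalk x) (X.presheaf.stalk x) = 1 := by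
  obtain ⟨U, f, hxU, hU⟩ := D.2 x
  have hz : ∀ z : X, z ⤳ x → z ≠ x → (f : X.functionField) ∈ oX z ∧ ((f⁻¹ : CDiv.KUnits X) : X.functionField) ∈ oX z :=
    fun z hzx hne => by
      rw [← germOf_eq_one_iff, ← hU z (hzx.mem_open U.isOpen hxU)]
      exact not_not.1 fun h => hne (hmax z h hzx)
  have hx' : ¬ ((f : X.functionField) ∈ oX x ∧ ((f⁻¹ : CDiv.KUnits X) : X.functionField) ∈ oX x) := by
    rw [← germOf_eq_one_iff, ← hU x hxU]; exact hx
  rw [not_and_or] at hx'
  rcases hx' with h | h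
  · exact depth_eq_one h fun z h1 h2 => (hz z h1 h2).1
  · exact depth_eq_one h fun z h1 h2 => (hz z h1 h2).2

end GrothLib.CDivLib
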